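import Mathlib.AlgebraicGeometry.Limits
import Groth.Agent.DomLib.Maximal

set_option autoImplicit false
universe u
open AlgebraicGeometry CategoryTheory TopologicalSpace Topology

namespace Groth.Agent.GenAff

variable {X : Scheme.{u}} [QuasiSeparatedSpace X]

lemma notMem_closure (η : X) (hη : closure ({η} : Set X) ∈ irreducibleComponents (X : Type u))
    (K : X.Opens) (hK : IsCompact (K : Set X)) (h : η ∉ K) : η ∉ closure (K : Set X) := by
  haveI : QuasiCompact K.ι := ⟨fun U hUo hU => by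
    rw [K.ι.isOpenEmbedding.toIsEmbedding.isCompact_iff, Set.image_preimage_eq_inter_range, Scheme.Opens.range_ι]
    exact QuasiSeparatedSpace.inter_isCompact U (K : Set X) hUo hU K.2 hK⟩
  intro hc
  obtain ⟨z, hz⟩ := DomLib.mem_range_of_mem_closure K.ι η hη (by rwa [Scheme.Opens.range_ι])
  exact h (hz ▸ z.2)

/-- An affine neighbourhood of a maximal point avoiding a quasi-compact open and finitely many other
maximal points. -/
lemma exists_affine (η : X) (hη : closure ({η} : Set X) ∈ irreducibleComponents (X : Type u))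
    (K : X.Opens) (hK : IsCompact (K : Set X)) (h : η ∉ K) (T : Set X) (hTf : T.Finite)
    (hT : ∀ t ∈ T, t ≠ η) :
    ∃ V : X.Opens, IsAffineOpen V ∧ η ∈ V ∧ Disjoint V K ∧ ∀ t ∈ T, t ∉ V := by
  have hTc : η ∉ ⋃ t ∈ T, closure ({t} : Set X) := fun hm => by
    simp only [Set.mem_iUnion] at hm
    obtain ⟨t, ht, hm⟩ := hm
    exact hT t ht (DomLib.eq_of_specializes_maximal hη (specializes_iff_mem_closure.2 hm))
  let O : X.Opens := ⟨(closure (K : Set X) ∪ ⋃ t ∈ T, closure ({t} : Set X))ᶜ,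
    (isClosed_closure.union (hTf.isClosed_biUnion fun t _ => isClosed_closure)).isOpen_compl⟩
  have hO : η ∈ O := fun hm => hm.elim (notMem_closure η hη K hK h) hTc
  obtain ⟨_, ⟨V, hV, rfl⟩, hηV, hVO⟩ := X.isBasis_affineOpens.exists_subset_of_mem_open hO O.2
  refine ⟨V, hV, hηV, ?_, fun t ht htV => hVO htV (Or.inr (Set.mem_iUnion₂.2 ⟨t, ht, subset_closure rfl⟩))⟩
  rw [disjoint_iff]
  exact eq_bot_iff.2 fun x hx => hVO hx.1 (Or.inl (subset_closure hx.2))

lemma exists_family (n : ℕ) (η : Fin n → X) (hη : ∀ i, closure ({η i} : Set X) ∈ irreducibleComponents (X : Type u))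
    (hinj : Function.Injective η) (K : X.Opens) (hK : IsCompact (K : Set X)) (hnot : ∀ i, η i ∉ K) :
    ∃ U : Fin n → X.Opens, (∀ i, IsAffineOpen (U i) ∧ η i ∈ U i ∧ Disjoint (U i) K) ∧
      (∀ i j, i ≠ j → Disjoint (U i) (U j)) := by
  induction n generalizing K with
  | zero => exact ⟨fun i => i.elim0, fun i => i.elim0, fun i => i.elim0⟩
  | succ n ih =>
    obtain ⟨V, hV, hV0, hVK, hVT⟩ := exists_affine (η 0) (hη 0) K hK (hnot 0) (Set.range fun i : Fin n => η i.succ)
      (Set.finite_range _) (fun t ⟨i, hi⟩ => hi ▸ fun e => Fin.succ_ne_zero i (hinj e))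
    obtain ⟨U, hU, hd⟩ := ih (fun i => η i.succ) (fun i => hη _) (hinj.comp (Fin.succ_injective n)) (K ⊔ V)
      (by simpa using hK.union hV.isCompact) (fun i h => h.elim (hnot _) (hVT _ ⟨i, rfl⟩))
    refine ⟨Fin.cons V U, Fin.cases ⟨hV, hV0, hVK⟩ (fun i => ⟨(hU i).1, (hU i).2.1, (hU i).2.2.mono_right le_sup_left⟩), ?_⟩
    intro i
    refine Fin.cases ?_ (fun i' => ?_) i <;> intro j <;> refine Fin.cases ?_ (fun j' => ?_) j <;> intro hij
    · exact absurd rfl hij
    · simpa using (hU j').2.2.symm.mono_left le_sup_right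
    · simpa using (hU i').2.2.mono_right le_sup_right
    · simpa using hd i' j' fun e => hij (congrArg Fin.succ e)

theorem exists_affine_containing (n : ℕ) (η : Fin n → X)
    (hη : ∀ i, closure ({η i} : Set X) ∈ irreducibleComponents (X : Type u)) (x : X) :
    ∃ U : X.Opens, IsAffineOpen U ∧ x ∈ U ∧ ∀ i, η i ∈ U := by
  classical
  obtain ⟨_, ⟨W, hW, rfl⟩, hxW, -⟩ := X.isBasis_affineOpens.exists_subset_of_mem_open (Set.mem_univ x) isOpen_univ
  let S : Finset X := (Finset.univ.image η).filter (· ∉ W)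
  let e := S.equivFin.symm
  obtain ⟨U, hU, hd⟩ := exists_family S.card (fun k => (e k : X))
    (fun k => by
      obtain ⟨h1, -⟩ := Finset.mem_filter.1 (e k).2
      obtain ⟨i, -, hi⟩ := Finset.mem_image.1 h1
      rw [← hi]; exact hη i)
    (Subtype.val_injective.comp e.injective) W hW.isCompact (fun k => (Finset.mem_filter.1 (e k).2).2)
  refine ⟨W ⊔ ⨆ k, U k, hW.sup_of_disjoint (IsAffineOpen.iSup_of_disjoint (fun k => (hU k).1) fun i j hij => hd i j hij)
    ?_, Or.inl hxW, fun i => ?_⟩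
  · exact (disjoint_iSup_iff.2 fun k => (hU k).2.2.symm)
  · by_cases h : η i ∈ W
    · exact Or.inl h
    · let k := e.symm ⟨η i, Finset.mem_filter.2 ⟨Finset.mem_image_of_mem η (Finset.mem_univ i), h⟩⟩
      refine Or.inr (Opens.mem_iSup.2 ⟨k, ?_⟩)
      have := (hU k).2.1
      simpa [k] using this

end Groth.Agent.GenAff
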